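import Groth.Agent.JacVar.K532.ThetaAmple
import Groth.Agent.Jac.K914.Fine

/-!
# The theta locus on the Jacobian is a Cartier divisor; a Jacobian exists

`k` algebraically closed, `X` a smooth proper connected curve over `k`.

* `exists_thetaLB`: for `N` invertible of degree `g - 1` the reduced theta locus of `N` on a Jacobian has a theta line
  bundle;
* `exists_jacobian`: there is a Jacobian.
-/

set_option autoImplicit false
universe u
open CategoryTheory CategoryTheory.Limits AlgebraicGeometry MonoidalCategory CartesianMonoidalCategory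
open scoped MonObj

namespace Groth.Agent.BunMod.K957.ThetaLBJ

open Groth.Agent Groth.Agent.Grpsch.PicGrp Groth.Agent.Fga.RigGrp Groth.Agent.Sga7.H732.Hedge
open Groth.Agent.Sga7.H732 K532.UnitBase K532.CurvePic K532.CurvePts K532.Dict Groth.Agent.Fga.JacSum
open Groth.Agent.Fga.JacFactor K532.Setup K532.KPts K532.Wr K532.MultPts K532.Theta1 Groth.Agent.Grpsch.Cube
open K532.NonHyp K532.ThetaClass Groth.Agent.Divis.EffCartier K532.ThetaIdeal K532.Lam K532.ThetaAmple
open K914.Cls K914.Fine Groth.Agent.Picfga.ChiDef K532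

/-- The ideal of an effective Cartier divisor has an inverse. -/
theorem exists_inv {Y : Scheme.{u}} {I : Y.IdealSheafData} (hI : BlowUp.IsEffCartierIdeal I) :
    ∃ Θ : Y.Modules, PicF.IsInvertible Θ ∧ ClSub.IsInverseOf Θ (ClSub.idealMod I) := by
  obtain ⟨Θ, hΘ, ⟨e⟩⟩ := exists_inverse (Dix.IdealModCartier.isInvertible_idealMod hI)
  exact ⟨Θ, hΘ, ⟨Ega2.Tens.swap _ _ ≪≫ e⟩⟩

theorem grp_aux {G H : Type*} [CommGroup G] [CommGroup H] (φ : G →* H) (A : H) (m m' : G) :
    A * φ m' = A * φ m * φ (m⁻¹ * m') := by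
  rw [map_mul, map_inv, mul_assoc, mul_inv_cancel_left]

section fine

variable {k : Type u} [Field k] {X : Scheme.{u}} {f : X ⟶ Spec (CommRingCat.of k)}
  [IsProper f] [Smooth f] [GeometricallyConnected f] [SmoothOfRelativeDimension 1 f]
  {σ : Spec (CommRingCat.of k) ⟶ X} {hσ : σ ≫ f = 𝟙 (Spec (CommRingCat.of k))}
  {J₀ : Over (Spec (CommRingCat.of k))} [GrpObj J₀] {ξ₀ : Pic (PicF.XT f J₀)} (h₀ : IsJac f σ hσ J₀ ξ₀) (d : ℤ)

/-- The Jacobian with `psiD` is a coarse moduli scheme of line bundles of degree `d`. -/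
theorem isCoarse : ModFun.IsCoarseModuli ⊤ (ModFun.PicDeg f d) J₀ (psiD h₀ d) := by
  refine ⟨fun _ _ _ _ => trivial, isBestApprox h₀ d, fun Ω _ _ t _ => ⟨fun g => ?_, fun L M hL hM h => ?_⟩⟩
  · obtain ⟨L, hL, hLc⟩ := exists_mk (pull (PicF.XTmap f g) (ξ₀ * tw f hσ d J₀))
    have hd := (isDeg_xi h₀ d).pull g
    have hok : (ModFun.PicDeg f d).ok (Over.mk t) L := (ok_iff hL).2 (hLc ▸ hd)
    refine ⟨L, hok, ?_⟩
    rw [app_eq (psiD h₀ d) trivial hok _ hd hLc.symm, ← comp_psiCl (psiD h₀ d) g _ (isDeg_xi h₀ d), psiCl_psiD,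
      classify_xi, Category.comp_id]
  · have iL := isInvertible_of_ok hL
    have iM := isInvertible_of_ok hM
    have h' : classify h₀ d (mk L iL) (isDeg_of_ok hL) = classify h₀ d (mk M iM) (isDeg_of_ok hM) := h
    obtain ⟨m, hm⟩ := exists_eq_pull h₀ d (mk L iL) (isDeg_of_ok hL)
    obtain ⟨m', hm'⟩ := exists_eq_pull h₀ d (mk M iM) (isDeg_of_ok hM)
    obtain ⟨N, hN, hNc⟩ := exists_mk (m⁻¹ * m')
    refine ⟨N, hN, ?_⟩
    have h1 : mk M iM = mk L iL * pull (PicF.XTproj f (Over.mk t)) (mk N hN) := by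
      rw [h'] at hm
      exact hm'.trans ((grp_aux _ _ _ _).trans (congrArg₂ (fun a b => a * pull (PicF.XTproj f (Over.mk t)) b)
        hm.symm hNc))
    rw [pull_mk] at h1
    exact (mk_eq_iff iM (Groth.Agent.Fdesc.LocGen.isInvertible_tensorMod iL (Fdesc.LocGen.isInvertible_pullback _ hN))).1 h1

/-- The Jacobian with `psiD` in degree zero is a Jacobian. -/
theorem isJacobian : Jac.IsJacobian f ⊤ J₀ (psiD h₀ 0) := by
  refine ⟨isCoarse h₀ 0, fun T _ L M N hL hM hN ⟨e⟩ => ?_⟩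
  have iL := isInvertible_of_ok hL
  have iM := isInvertible_of_ok hM
  have iN := isInvertible_of_ok hN
  apply hom_ext h₀
  rw [h₀.mul]
  change pull (PicF.XTmap f (classify h₀ 0 (mk N iN) (isDeg_of_ok hN))) ξ₀ =
    pull (PicF.XTmap f (classify h₀ 0 (mk L iL) (isDeg_of_ok hL))) ξ₀ *
      pull (PicF.XTmap f (classify h₀ 0 (mk M iM) (isDeg_of_ok hM))) ξ₀
  have ht : tw f hσ (-0) T = 1 := by rw [neg_zero, tw, zpow_zero]
  rw [pull_classify, pull_classify, pull_classify, ht, mul_one, mul_one, mul_one, ← map_mul]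
  refine congrArg (norm f σ hσ T) ?_
  exact (mk_congr e).trans (mk_mul_mk iL iM).symm

end fine

section

variable (k : Type u) [Field k] [IsAlgClosed k]
  (X : Scheme.{u}) [X.Over (Spec (CommRingCat.of k))]
  [IsProper (X ↘ Spec (CommRingCat.of k))] [Smooth (X ↘ Spec (CommRingCat.of k))]
  [GeometricallyConnected (X ↘ Spec (CommRingCat.of k))] (hdim : topologicalKrullDim ↥X = 1)

include hdim

/-- JB3b.  The theta locus on the Jacobian is a Cartier divisor. -/
theorem exists_thetaLB (g : ℕ) (hg : Curv2.genus k X = g) (hg1 : 1 ≤ g)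
    (N : X.Modules) (hN : PicF.IsInvertible N) (hNdeg : Curv2.deg k X N 1 = (g : ℤ) - 1)
    (J : Over (Spec (CommRingCat.of k))) [GrpObj J] [IsCommMonObj J]
    (ψ : (ModFun.PicDeg (X ↘ Spec (CommRingCat.of k)) 0).Hom ⊤ J)
    (hJ : Jac.IsJacobian (X ↘ Spec (CommRingCat.of k)) ⊤ J ψ) :
    ∃ ΘJ : J.left.Modules, Jac.IsThetaLB (X ↘ Spec (CommRingCat.of k)) 0 ψ N ΘJ := by
  obtain ⟨hX, hp, hgi, hs, σ, hσ, ξ, h, j, hj, hψ, -⟩ := exists_setup hdim hJ
  have hn : gen k X = (g - 1) + 1 := by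
    change Curv2.genus k X = _
    omega
  have hdeg : deg k X (mk N hN) = (gen k X : ℤ) - 1 := by
    rw [deg_mk k X hdim, hNdeg, ← hg]
  obtain ⟨ν, hν⟩ := exists_ideal_theta hX h hj hψ hn hN hdeg
  have hE := K532.ThetaCartier.isEff_theta hX h hj hn
  have hiso : IsIso (rho ν).left := by
    have h1 : (rho ν).left ≫ (rho ν).left = 𝟙 J.left := by
      rw [← Over.comp_left, rho_rho]; rfl
    exact ⟨_, h1, h1⟩
  have h3 : BlowUp.IsEffCartierIdeal ((IT j (g - 1) 1).comap (rho ν).left) := isEff_comap_flat hE _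
  obtain ⟨Θ, hΘ, h4⟩ := exists_inv h3
  exact ⟨Θ, hΘ, by rw [hν]; exact h4⟩

/-- JB3a.  A Jacobian exists. -/
theorem exists_jacobian : ∃ (J : Over (Spec (CommRingCat.of k))) (_ : GrpObj J) (_ : IsCommMonObj J)
    (ψ : (ModFun.PicDeg (X ↘ Spec (CommRingCat.of k)) 0).Hom ⊤ J),
    Jac.IsJacobian (X ↘ Spec (CommRingCat.of k)) ⊤ J ψ := by
  have hX' := Base.isSmoothProperCurve (X ↘ Spec (CommRingCat.of k)) hdim
  have hX := isCurve_of_isAlgClosed k X hX'
  have hs : SmoothOfRelativeDimension 1 (X ↘ Spec (CommRingCat.of k)) := Base.smoothOfRelDim _ hdim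
  have hint := hX.integral
  obtain ⟨x, -⟩ := exists_kpt hX (⊤ : X.Opens) ⟨genericPoint X, trivial⟩
  obtain ⟨J, _, ξ, hp, hgi, h₀⟩ := K914.Fine.exists_isJac (X ↘ Spec (CommRingCat.of k)) x.1 x.2
  have hcomm : IsCommMonObj J := isCommMonObj_of_isProper_of_geometricallyIntegral _
  exact ⟨J, _, hcomm, psiD h₀ 0, isJacobian h₀⟩

end

end Groth.Agent.BunMod.K957.ThetaLBJ
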